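set_option autoImplicit false
namespace Cfsg.Agent.Lib.Helper6.TCD.O73C
noncomputable def NC (i : Nat) : Nat := Nat.land (Nat.shiftRight 0x18000c0000bf600030000b1000080006450000c000010000c80002370002f000040003100007d8000bc00004000fc0000750002f00003000300002f8c000bc0001c001dc000ba70002e00006000770002e98000b800004000ec000eb50002e00006000710005cd0000b800008001dc000ba20002e00007000630002d9c000b400018000b40000b60002d00002000300002fd4000b400010000b40000b40002d00003000630002d8c000b400004000b40000b10002d000010004d0003cdc000b00000400130000f760002c00000000300002fd4000b000010000b00000f40002c000030002c00003cc000b00000800138000b220002c0009b000060002848000ac00008000ac0004b60002a00077000040003c5c000a40001c002b80002730002900001000ac0002984000a400018000a000097600028000070002700024dc0009c000080009c00093200027000070002600023dc0009800018000980008f600026000030002600023cc00098002400002000195600025000040002a00000dc0009000010000a40003b200024000070002300000dc0008c000180008c00003600023000040002600023900008c0001c000880007f70002200006000220001fd8000880000c0008c0000350002200002000220001fc8000880000c000ac0004b6000210008500004000155c00080000080029c00082200020000050002100015dc0007c00014000800005b60001f00004000220001f900007c00010000840005770001e000040002000016d800078000140007c0007a50001e000030001f0001e8c0007800008000840005770001d000060001d00019d800074000080007c0007b50001d000020001e00000d00007400004000740006710001d0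0003000ae00009d800070001d800018000fd70001b00006000290000ec80006c0001c000680006770001a000060001a00019d80006800008000980008f40001a000040001c00016dc00064000100006c00003600019000020002300000d4000640000c000680006630001900006000ae00009dc000600000c0006c00003600018000030001d00019940006000010000600000340001800007000af0000fc80006000004002ac00072700017000060001700010d80005c000040006800067500017000040001700010d00005c0011800010000cd300017000000009c00017800005c00004000ac0004b6000160000700021000159c000540001c0007400067200015000070001400013dc0005000018000500004f600014000010002600023d00005000010000580003f700013000070001e00000d80004c000040008c000035000130000300014000138c0004c0001c000ac0004a700012000060002b00012980004800014000ac0004a50001200004000120000ed0000480000c000800005a200012000070001100010dc00044000180004400043600011000020001400013d400044000100004400043400011000030001100010cc00044000b000020001bd1000110000000020000169c00040000000008400056600010000000001400013d400040000100004000027400010000000002b000128c00040000000004400043200010000030001700010980003c00018000580003e70000e00000000290000ec8000380001c000340003370000d000060000d0000cd80003400004002c4002bb40000d000060001e00000dc0003000010000380000360000c000000002300000d4000300000c000340003230000c00003000160000f9c0002c00008000800005a60000b000000001f0001ed40002c00000000780000340000b000020000c0000b880002c00000002840007270000a000060000a00009d80002800008000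340003350000a000040000a00009d0000280000c000280002730000a00002000a200000c400028000080028400073700009000030001c00016d800024000040003400033500009000010000c0000bd00002400018000700005b300009000070002000016c8000240001c0028400073000009000040009000055d80002000018001500001f700007000030003c00032880001c0001c0001800017700006000060000600005d8000180000000108000ff400006000070000500004dc00014000180001400013600005000050008b00006d4000140000c0001800016300005000060008600002dc00010000180018800012600004000010005600055d40001000010001f40001740000400002000050000488000100000800134000f2700003000060002c00003980000c00008000180001750000300007000710005cd00000c0001c000c40001f300003000070004d0003c840000c00004000f0000cb7000020000300032000089800008000040001800017500002000010000500004d00000800008001500001f300002000010004e0002cc8000080001c000f0000cb0000020000700075000019c000040001c001500001f600001000000000600005d400004000000001400013400001000060003200008cc000040001c000e0000cb200001000070003200008c4000040000c000480003a70000000000000120000e980000000014000980008f500000000040001f0001ed00000000000000a800003300000000070001c00016c8000000001c000580003f100000000000003f000544000000000000000000000000000 (Nat.mul 86 (Nat.land i 511))) 77371252455336267181195263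
end Cfsg.Agent.Lib.Helper6.TCD.O73C
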