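set_option autoImplicit false
namespace Cfsg.Agent.Lib.Helper6.TCD.O73C
noncomputable def NH (i : Nat) : Nat := Nat.land (Nat.shiftRight 0xc60002bc00165800570003b10000000076e0001e000c3c000240018a000550003200002900063e00038000dd8002a4001dc8000000031e0002a00066c00040000dd00005400189000520003730001300066a00054000dc800000001b48000e000375000000006200013c000ed400064001da0000c00032c0001700057e00134000d08001500015b0003b80031c000320006460007a000c340024000185000478003060008e0005b20011a000b5c002300016a0004400033a0005500074000002000e580010000173800040002e6000070005aa0000c000c140020c00182000410002e500004000604000f4000d14000080019200031800337000320006bc000b6000d5400170001818003e80035c0005b0006a6000b8000da000010001b30000280035a0006000075a000e0000d90001e4001d2000008003a9000010006320005c000aec001d4001cd000008002fe000710005f8000e0000b48001bc001c30002e0003c0000010005c800006000bec001ac0018d000188003bf00001000754000d2000f0800004001e0800008003210003c00071a0007a000be400194001c600025000327000460006680005a000d0400010001b0000020003ae000010005ee000b8000bd40016c001680002d00038f0004100074c00002000b8c000080017a0002b0003490005400069000010000d1800154001cf00020000352000070006640009a000cc400130001790002800032f0004a00065c00092000ca8000b0001a78001e0003580003d0005e000094000e6c000bc0019f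0002380032d000020007140008c000e4c00010001ca800038002ee000410005d800080000b34000fc001d2800008003a1000010005c400002000bac000ec001c700003800350000320006c200074000e8c00004001d40001a8003820003200077c00002000ba4000d4001de800008003bc0000100074400002000e0c00020001c2800038002e80002f00074e00002000e2000010001ab800010003840000300067a00024000dc000000001b6800070002e1000250005c000048000b3c0008c001c08000a8003800000f0005b600000000b7c0007c001a68000a80034c0001600069c0003c000df000000001bf8000c80036a0001600076c00000000b7800064001dd000000003b8000000006d600020000db00003c001d8000000002dd000130006fc00000000dbc00038001958000800036e0000900077600000000dc4000000016e0000600037d0000b00076400000000ebc00024001d98000000039d0000100073800008000b5800014001b38000200039f0000100071200004000e5000004001e1800000003c400000 (Nat.mul 43 (Nat.land i 1023))) 8796093022207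
end Cfsg.Agent.Lib.Helper6.TCD.O73C
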