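set_option autoImplicit false
namespace Cfsg.Agent.Lib.Helper6.TCD.O73C
noncomputable def WI (i : Nat) : Nat := Nat.land (Nat.shiftRight 0x83934189a0a4d042681934089a024d00260393018980a4c0426019300898024c00268312c1496084b03258112c0496004a0625029281094064a02250092800961049072483124149208490324811240492004808240392018900a4804240192008900248002400918008c0244002200908008402400020008f8007c023c001e008e800740238001c008d8006c0234001a008c8006402300018008b8005c022c0016008a800540228001400898004c022400120088800440220001000878003c021c000e0086800340218000c00858002c0214000a00848002402100008000380018000a000400018000800020000 (Nat.mul 17 (Nat.land i 255))) 131071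
end Cfsg.Agent.Lib.Helper6.TCD.O73C
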